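import Groth.Agent.S4567
import Groth.Agent.S0415
import Groth.Agent.MorLib.RingUnivHomeo
import Groth.Agent.UnibEtale.Basic
import Mathlib.AlgebraicGeometry.Normalization
import Mathlib.FieldTheory.PurelyInseparable.Basic
import Mathlib.AlgebraicGeometry.FunctionField

/-!
# Normalisation in a purely inseparable extension of a geometrically unibranch scheme
-/

set_option autoImplicit false
set_option backward.isDefEq.respectTransparency false
set_option linter.style.haveILetI false

universe u

namespace Groth.Agent.NormPI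

open CategoryTheory AlgebraicGeometry

/-- Integral closure in a purely inseparable extension is radicial for geometrically unibranch domains. -/
theorem radicial_integralClosure {A : Type u} [CommRing A] [IsDomain A]
    (hA : ∀ (p : Ideal A) [p.IsPrime], CAlg2.IsGeomUnibranch (Localization.AtPrime p))
    {L : Type u} [CommRing L] [Algebra A L] (K : Type u) [Field K] [Algebra A K] [IsFractionRing A K]
    (ι : K →+* L) (hι : Function.Injective ι) (hcomp : ι.comp (algebraMap A K) = algebraMap A L)
    (q : ℕ) [ExpChar K q] (hL : ∀ l : L, ∃ n : ℕ, l ^ q ^ n ∈ ι.range) :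
    MorLib.RUH.Radicial (algebraMap A (integralClosure A L)) := by
  intro F _ f g hfg
  have hrad := (MorLib.RUH.universallyInjective_SpecMap_iff _).mp ((S4567.result (A := A)).1.mpr hA)
  let e : FractionRing A ≃ₐ[A] K := IsLocalization.algEquiv (nonZeroDivisors A) _ _
  let κ : FractionRing A →ₐ[A] L :=
    (⟨ι, fun a => RingHom.congr_fun hcomp a⟩ : K →ₐ[A] L).comp e.toAlgHom
  let j : integralClosure A (FractionRing A) →ₐ[A] integralClosure A L :=
    (κ.comp (integralClosure A (FractionRing A)).val).codRestrict _ fun x => x.2.map κ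
  have hj : f.comp j.toRingHom = g.comp j.toRingHom := hrad F _ _ (RingHom.ext fun a => by
    show f (j (algebraMap A _ a)) = g (j (algebraMap A _ a))
    rw [j.commutes]
    exact RingHom.congr_fun hfg a)
  refine RingHom.ext fun b => ?_
  obtain ⟨n, x, hx⟩ := hL b
  have hpos : 0 < q ^ n := pow_pos (expChar_pos K q) n
  have hint : IsIntegral A (e.symm x) := by
    refine (isIntegral_algHom_iff κ (hι.comp e.injective)).mp ?_
    show IsIntegral A (ι (e (e.symm x)))
    rw [e.apply_symm_apply, hx]
    exact b.2.pow _
  have hb : b ^ q ^ n = j ⟨e.symm x, hint⟩ := Subtype.ext (by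
    show (b : L) ^ q ^ n = ι (e (e.symm x))
    rw [e.apply_symm_apply, hx])
  have h1 : f b ^ q ^ n = g b ^ q ^ n := by
    rw [← map_pow, ← map_pow, hb]
    exact RingHom.congr_fun hj _
  rcases ‹ExpChar K q› with _ | hprime
  · simpa using h1
  · haveI : CharP A q := RingHom.charP (algebraMap A K) (IsFractionRing.injective A K) q
    haveI : Fact q.Prime := ⟨hprime⟩
    haveI : CharP F q := by
      refine (CharP.charP_iff_prime_eq_zero hprime).mpr ?_
      rw [← map_natCast (f.comp (algebraMap A _)), CharP.cast_eq_zero, map_zero]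
    exact iterateFrobenius_inj F q n h1

/-- The normalisation map of an integral scheme in a purely inseparable extension of its function field. -/
theorem isUnivHomeo_fromNormalization (Y : Scheme.{u}) [IsIntegral Y]
    (hY : ∀ y : Y, CAlg2.IsGeomUnibranch (Y.presheaf.stalk y))
    (L : Type u) [Field L] [Algebra Y.functionField L] [IsPurelyInseparable Y.functionField L]
    [QuasiCompact (Spec.map (CommRingCat.ofHom (algebraMap Y.functionField L)) ≫ Y.fromSpecStalk (genericPoint Y))]
    [QuasiSeparated (Spec.map (CommRingCat.ofHom (algebraMap Y.functionField L)) ≫ Y.fromSpecStalk (genericPoint Y))] :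
    FlatMor.IsUnivHomeo
      (Spec.map (CommRingCat.ofHom (algebraMap Y.functionField L)) ≫
        Y.fromSpecStalk (genericPoint Y)).fromNormalization := by
  set f := Spec.map (CommRingCat.ofHom (algebraMap Y.functionField L)) ≫ Y.fromSpecStalk (genericPoint Y) with hf
  let ι := {U : Y.affineOpens // Nonempty (U : Y.Opens)}
  have hcov : ⨆ U : ι, (U.1 : Y.Opens) = ⊤ := by
    refine eq_top_iff.mpr fun y _ => ?_
    have hy : y ∈ (⨆ U : Y.affineOpens, (U : Y.Opens)) := (iSup_affineOpens_eq_top Y).symm ▸ trivial
    obtain ⟨U, hU⟩ := TopologicalSpace.Opens.mem_iSup.mp hy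
    exact TopologicalSpace.Opens.mem_iSup.mpr ⟨⟨U, ⟨⟨y, hU⟩⟩⟩, hU⟩
  have hmain : ∀ U : ι, UniversallyInjective (f.fromNormalization ∣_ U.1.1) ∧
      Surjective (f.fromNormalization ∣_ U.1.1) := by
    rintro ⟨U, hne⟩
    haveI := hne
    let e := IsOpenImmersion.isoOfRangeEq (f.fromNormalization ⁻¹ᵁ U).ι (f.normalizationOpenCover.f U)
      (by simpa using congr($(f.fromNormalization_preimage U).1))
    suffices h : UniversallyInjective (Spec.map (f.normalizationDiagramMap.app (.op U.1))) ∧
        Surjective (Spec.map (f.normalizationDiagramMap.app (.op U.1))) by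
      have he : f.fromNormalization ∣_ U.1 =
          e.hom ≫ Spec.map (f.normalizationDiagramMap.app (.op U.1)) ≫ U.2.isoSpec.inv := by
        rw [← cancel_mono U.1.ι]
        simp [e, IsAffineOpen.isoSpec_inv_ι, ← Scheme.Hom.ι_fromNormalization]
      rw [he]
      exact ⟨(MorphismProperty.cancel_left_of_respectsIso @UniversallyInjective _ _).mpr
          ((MorphismProperty.cancel_right_of_respectsIso @UniversallyInjective _ _).mpr h.1),
        (MorphismProperty.cancel_left_of_respectsIso @Surjective _ _).mpr
          ((MorphismProperty.cancel_right_of_respectsIso @Surjective _ _).mpr h.2)⟩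
    letI : Algebra Γ(Y, U.1) Γ(Spec (CommRingCat.of L), f ⁻¹ᵁ U.1) := (f.app U.1).hom.toAlgebra
    haveI : IsDomain Γ(Y, U.1) := inferInstance
    haveI : IsFractionRing Γ(Y, U.1) Y.functionField := functionField_isFractionRing_of_isAffineOpen Y U.1 U.2
    have hgen : genericPoint Y ∈ U.1 :=
      ((genericPoint_spec Y).mem_open_set_iff U.1.2).mpr (by
        obtain ⟨⟨y, hy⟩⟩ := hne
        exact ⟨y, trivial, hy⟩)
    have htop : (f ⁻¹ᵁ U.1) = ⊤ := by
      refine eq_top_iff.mpr fun z _ => ?_
      show f z ∈ U.1
      rw [hf, Scheme.Hom.comp_apply]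
      have : (Y.fromSpecStalk (genericPoint Y))
          ((Spec.map (CommRingCat.ofHom (algebraMap Y.functionField L))) z) ⤳ genericPoint Y ∨ True := Or.inr trivial
      have hz : Set.range (Y.fromSpecStalk (genericPoint Y)) = {y | y ⤳ genericPoint Y} :=
        Scheme.range_fromSpecStalk
      have := hz.le ⟨(Spec.map (CommRingCat.ofHom (algebraMap Y.functionField L))) z, rfl⟩
      exact this.mem_open U.1.2 hgen
    let c : Y.functionField ⟶ Γ(Spec (CommRingCat.of L), f ⁻¹ᵁ U.1) :=
      CommRingCat.ofHom (algebraMap Y.functionField L) ≫ (Scheme.ΓSpecIso (CommRingCat.of L)).inv ≫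
        (Spec (CommRingCat.of L)).presheaf.map (eqToHom htop).op
    have hc : Y.presheaf.germ U.1 (genericPoint Y) hgen ≫ c = f.app U.1 := by
      rw [show f.app U.1 = (Y.fromSpecStalk (genericPoint Y)).app U.1 ≫
        (Spec.map (CommRingCat.ofHom (algebraMap Y.functionField L))).app _ from Scheme.Hom.comp_app _ _ _,
        Scheme.fromSpecStalk_app hgen, Category.assoc, Category.assoc]
      simp only [c]
      refine congrArg (fun z => Y.presheaf.germ U.1 (genericPoint Y) hgen ≫ z) ?_
      rw [Scheme.ΓSpecIso_inv_naturality_assoc, Scheme.Hom.naturality]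
      rfl
    have hbij : Function.Bijective ((Scheme.ΓSpecIso (CommRingCat.of L)).inv ≫
        (Spec (CommRingCat.of L)).presheaf.map (eqToHom htop).op) :=
      ConcreteCategory.bijective_of_isIso _
    obtain ⟨q, hq⟩ := ExpChar.exists Y.functionField
    have hdom : ∀ (p : Ideal Γ(Y, U.1)) [p.IsPrime], CAlg2.IsGeomUnibranch (Localization.AtPrime p) := by
      intro p hp
      let y := U.2.fromSpec ⟨p, hp⟩
      have hy : y ∈ U.1 := U.2.range_fromSpec.le ⟨⟨p, hp⟩, rfl⟩
      letI := Y.presheaf.algebra_section_stalk (⟨y, hy⟩ : U.1)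
      haveI := U.2.isLocalization_stalk ⟨y, hy⟩
      have hpy : (U.2.primeIdealOf ⟨y, hy⟩).asIdeal = p := by
        have : U.2.primeIdealOf ⟨y, hy⟩ = ⟨p, hp⟩ := U.2.fromSpec.isOpenEmbedding.injective
          (U.2.fromSpec_primeIdealOf ⟨y, hy⟩)
        rw [this]
      haveI : IsLocalization.AtPrime (Y.presheaf.stalk y) p := by
        convert U.2.isLocalization_stalk ⟨y, hy⟩ using 1
        rw [hpy]
      exact UnibEtale.isGeomUnibranch_of_ringEquiv
        (IsLocalization.algEquiv p.primeCompl (Y.presheaf.stalk y) (Localization.AtPrime p)).toRingEquiv (hY y)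
    have hrad : MorLib.RUH.Radicial (algebraMap Γ(Y, U.1) (integralClosure Γ(Y, U.1) Γ(Spec (CommRingCat.of L), f ⁻¹ᵁ U.1))) := by
      refine radicial_integralClosure hdom Y.functionField c.hom
        (hbij.1.comp (algebraMap Y.functionField L).injective) ?_ q ?_
      · exact congrArg CommRingCat.Hom.hom hc
      · intro l
        obtain ⟨l₀, rfl⟩ := hbij.2 l
        obtain ⟨n, x, hx⟩ := IsPurelyInseparable.pow_mem Y.functionField q l₀
        refine ⟨n, x, ?_⟩
        rw [← map_pow, ← hx]
        rfl
    have hinj : Function.Injective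
        (algebraMap Γ(Y, U.1) (integralClosure Γ(Y, U.1) Γ(Spec (CommRingCat.of L), f ⁻¹ᵁ U.1))) := by
      intro a b hab
      have h1 : f.app U.1 a = f.app U.1 b := congrArg Subtype.val hab
      rw [← hc] at h1
      exact Scheme.germToFunctionField_injective Y U.1
        ((hbij.1.comp (algebraMap Y.functionField L).injective) h1)
    refine ⟨(MorLib.RUH.universallyInjective_SpecMap_iff _).mpr hrad,
      (MorLib.RUH.surjective_SpecMap_iff _).mpr (RingHom.IsIntegral.comap_surjective ?_ hinj)⟩
    exact algebraMap_isIntegral_iff.mpr inferInstance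
  haveI : UniversallyInjective f.fromNormalization :=
    (IsZariskiLocalAtTarget.iff_of_iSup_eq_top (P := @UniversallyInjective) _ hcov).mpr fun U => (hmain U).1
  haveI : Surjective f.fromNormalization :=
    (IsZariskiLocalAtTarget.iff_of_iSup_eq_top (P := @Surjective) _ hcov).mpr fun U => (hmain U).2
  exact (Groth.Agent.S0415.result _).mpr ⟨inferInstance, inferInstance, inferInstance⟩

end Groth.Agent.NormPI
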